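import Cfsg.Agent.H881.Bs.Conj

/-!
# S5733: finite field extensions: numbers of non-generators, of roots of unity, of elements of given norm
-/

set_option autoImplicit false

namespace Cfsg.Agent.H881.Bs

open Module

variable {F L : Type*} [Field F] [Field L] [Algebra F L] [Finite L]

/-- elements which do not generate `L` lie in a proper subfield -/
theorem pow_eq_of_not_gen {t : L} (h : ¬ Gen F t) : ∃ e ∈ (finrank F L).properDivisors, t ^ (Nat.card F ^ e) = t := by
  have hF : Finite F := Finite.of_injective _ (algebraMap F L).injective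
  have hfd : FiniteDimensional F L := Module.Finite.of_finite
  have hpos : 0 < finrank F L := finrank_pos
  set K := IntermediateField.adjoin F {t} with hK
  have h1 : K ≠ ⊤ := by
    intro h1
    apply h
    have h2 : (IntermediateField.adjoin F {t}).toSubalgebra = Algebra.adjoin F {t} :=
      IntermediateField.adjoin_simple_toSubalgebra_of_isAlgebraic (Algebra.IsAlgebraic.isAlgebraic t)
    unfold Gen
    rw [← h2, ← hK, h1, IntermediateField.top_toSubalgebra]
  have h2 : finrank F K * finrank K L = finrank F L := finrank_mul_finrank F K L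
  have h3 : finrank K L ≠ 1 := by
    intro h3
    apply h1
    exact IntermediateField.finrank_eq_one_iff_eq_top.1 h3
  refine ⟨finrank F K, ?_, ?_⟩
  · rw [Nat.mem_properDivisors]
    refine ⟨Dvd.intro _ h2, ?_⟩
    have h4 : 0 < finrank F K := finrank_pos
    have h5 : 0 < finrank K L := finrank_pos
    rw [← h2]
    exact (Nat.lt_mul_iff_one_lt_right h4).2 (by omega)
  · have htK : t ∈ K := IntermediateField.mem_adjoin_simple_self F t
    have h4 : Nat.card K = Nat.card F ^ finrank F K := Module.natCard_eq_pow_finrank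
    have : Fintype K := Fintype.ofFinite K
    have h5 : (⟨t, htK⟩ : K) ^ Nat.card K = ⟨t, htK⟩ := by
      rw [Nat.card_eq_fintype_card]
      exact FiniteField.pow_card _
    rw [h4] at h5
    exact congrArg Subtype.val h5

theorem card_pow_eq_le {n : ℕ} (hn : 1 < n) : Nat.card {t : L // t ^ n = t} ≤ n := by
  classical
  have h0 : (Polynomial.X ^ n - Polynomial.X : Polynomial L) ≠ 0 := by
    intro h
    have h1 := congrArg (fun p => Polynomial.coeff p n) h
    simp only [Polynomial.coeff_sub, Polynomial.coeff_X_pow, if_true, Polynomial.coeff_zero] at h1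
    rw [Polynomial.coeff_X_of_ne_one (by omega), sub_zero] at h1
    exact one_ne_zero h1
  have h1 : Nat.card {t : L // t ^ n = t} ≤ Nat.card ((Polynomial.X ^ n - Polynomial.X : Polynomial L).rootSet L) := by
    refine Nat.card_le_card_of_injective (fun t => ⟨t.1, ?_⟩) fun a b h =>
      Subtype.ext (congrArg (fun x : (Polynomial.X ^ n - Polynomial.X : Polynomial L).rootSet L => (x : L)) h)
    rw [Polynomial.mem_rootSet]
    refine ⟨h0, ?_⟩
    rw [map_sub, map_pow, Polynomial.aeval_X, t.2, sub_self]
  refine h1.trans ((card_rootSet_le _).trans ?_)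
  refine (Polynomial.natDegree_sub_le _ _).trans ?_
  rw [Polynomial.natDegree_X_pow, Polynomial.natDegree_X]
  omega

/-- the number of elements which do not generate `L` -/
theorem card_not_gen_le_sum : Nat.card {t : L // ¬ Gen F t} ≤
    ∑ e ∈ (finrank F L).properDivisors, Nat.card F ^ e := by
  classical
  have hF : Finite F := Finite.of_injective _ (algebraMap F L).injective
  have : Fintype L := Fintype.ofFinite L
  have h1 : Nat.card {t : L // ¬ Gen F t} ≤
      ((finrank F L).properDivisors.biUnion fun e => Finset.univ.filter fun t : L => t ^ (Nat.card F ^ e) = t).card := by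
    rw [Nat.card_eq_fintype_card, Fintype.card_subtype]
    refine Finset.card_le_card fun t ht => ?_
    rw [Finset.mem_filter] at ht
    obtain ⟨e, he, h⟩ := pow_eq_of_not_gen ht.2
    rw [Finset.mem_biUnion]
    exact ⟨e, he, Finset.mem_filter.2 ⟨Finset.mem_univ _, h⟩⟩
  refine h1.trans (Finset.card_biUnion_le.trans (Finset.sum_le_sum fun e he => ?_))
  have h2 : (Finset.univ.filter fun t : L => t ^ (Nat.card F ^ e) = t).card =
      Nat.card {t : L // t ^ (Nat.card F ^ e) = t} := by
    rw [Nat.card_eq_fintype_card (α := {t : L // t ^ (Nat.card F ^ e) = t}), Fintype.card_subtype]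
  rw [h2]
  apply card_pow_eq_le
  have h3 : 1 < Nat.card F := Finite.one_lt_card
  refine Nat.one_lt_pow ?_ h3
  rintro rfl
  rw [Nat.mem_properDivisors] at he
  have h4 : finrank F L = 0 := Nat.eq_zero_of_zero_dvd he.1
  omega

theorem sum_pow_le {q : ℕ} (hq : 2 ≤ q) (m : ℕ) : ∑ e ∈ Finset.range (m + 1), q ^ e ≤ 2 * q ^ m := by
  induction m with
  | zero => simp
  | succ m ih =>
    rw [Finset.sum_range_succ]
    have h1 : 2 * q ^ m ≤ q ^ (m + 1) := by
      rw [pow_succ, mul_comm]
      exact Nat.mul_le_mul_left _ hq
    omega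

/-- all proper divisors at most `m` -/
theorem card_not_gen_le {m : ℕ} (h : ∀ e ∈ (finrank F L).properDivisors, e ≤ m) :
    Nat.card {t : L // ¬ Gen F t} ≤ 2 * Nat.card F ^ m := by
  have hF : Finite F := Finite.of_injective _ (algebraMap F L).injective
  refine card_not_gen_le_sum.trans (le_trans ?_ (sum_pow_le (Finite.one_lt_card (α := F)) m))
  refine Finset.sum_le_sum_of_subset fun e he => ?_
  rw [Finset.mem_range]
  have := h e he
  omega

theorem card_not_gen_half : Nat.card {t : L // ¬ Gen F t} ≤ 2 * Nat.card F ^ (finrank F L / 2) := by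
  refine card_not_gen_le fun e he => ?_
  rw [Nat.mem_properDivisors] at he
  obtain ⟨k, hk⟩ := he.1
  have h1 : 2 ≤ k := by
    by_contra h1
    interval_cases k <;> omega
  rw [Nat.le_div_iff_mul_le (by norm_num), hk]
  exact Nat.mul_le_mul_left _ h1

theorem card_not_gen_third (ho : Odd (finrank F L)) :
    Nat.card {t : L // ¬ Gen F t} ≤ 2 * Nat.card F ^ (finrank F L / 3) := by
  refine card_not_gen_le fun e he => ?_
  rw [Nat.mem_properDivisors] at he
  obtain ⟨k, hk⟩ := he.1
  have h1 : 3 ≤ k := by
    by_contra h1
    interval_cases k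
    · omega
    · omega
    · rw [hk] at ho
      exact absurd ho (by rw [Nat.not_odd_iff_even]; exact ⟨e, by omega⟩)
  rw [Nat.le_div_iff_mul_le (by norm_num), hk]
  exact Nat.mul_le_mul_left _ h1

/-- units instead of elements -/
theorem card_unit_not_gen_le : Nat.card {t : Lˣ // ¬ Gen F (t : L)} ≤ Nat.card {t : L // ¬ Gen F t} :=
  Nat.card_le_card_of_injective (fun t => ⟨t.1, t.2⟩) fun _ _ h => Subtype.ext (Units.ext (congrArg Subtype.val h))

/-- the number of roots of unity -/
theorem card_pow_eq_one {m : ℕ} (hm : m ∣ Nat.card Lˣ) : Nat.card {t : Lˣ // t ^ m = 1} = m := by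
  have h := IsCyclic.card_powMonoidHom_ker (G := Lˣ) m
  rw [Nat.gcd_eq_right hm] at h
  exact h

/-- the number of elements of a subgroup `T` of given image under a homomorphism -/
theorem card_fiber {A B : Type*} [Group A] [Group B] [Finite A] (f : A →* B) {b : B} (hb : b ∈ f.range) :
    Nat.card {a : A // f a = b} * Nat.card f.range = Nat.card A := by
  obtain ⟨a₀, rfl⟩ := hb
  have h1 : Nat.card {a : A // f a = f a₀} = Nat.card f.ker := by
    refine Nat.card_congr
      { toFun := fun x => ⟨x.1 * a₀⁻¹, by rw [MonoidHom.mem_ker, map_mul, map_inv, x.2, mul_inv_cancel]⟩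
        invFun := fun x => ⟨x.1 * a₀, by rw [map_mul, MonoidHom.mem_ker.1 x.2, one_mul]⟩
        left_inv := fun x => by simp
        right_inv := fun x => by simp }
  rw [h1, mul_comm, ← Subgroup.index_ker, Subgroup.index_mul_card]

/-- equality of minimal polynomials -/
theorem eq_pow_of_minpoly_eq {t u : L} (h : minpoly F t = minpoly F u) : ∃ i, u = t ^ (Nat.card F ^ i) := by
  have hF : Finite F := Finite.of_injective _ (algebraMap F L).injective
  have hfd : FiniteDimensional F L := Module.Finite.of_finite
  have hgal : IsGalois F L := inferInstance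
  obtain ⟨p, hp⟩ := CharP.exists F
  have : Fact p.Prime := ⟨CharP.char_is_prime F p⟩
  have hn : Normal F L := inferInstance
  obtain ⟨σ, hσ⟩ := (Normal.minpoly_eq_iff_mem_orbit L (x := u) (y := t)).1 h.symm
  obtain ⟨i, hi⟩ := FiniteField.exists_forall_apply_eq_pow F p L σ
  refine ⟨i, ?_⟩
  rw [← hi]
  exact hσ.symm

end Cfsg.Agent.H881.Bs
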