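import Cfsg.Agent.H881.Bs.HermForm
import Cfsg.Agent.H881.Bs.FieldExt

/-!
# S5733 (BS06): irreducible isometries of hermitian spaces of odd dimension
-/

set_option autoImplicit false
set_option linter.unusedSectionVars false

namespace Cfsg.Agent.H881.Bs

open Cfsg.Agent.H847.Bs Module

section field

variable {F : Type*} [Field F] [Finite F] {r : ℕ}

theorem add_pow_rn {A : Type*} [CommRing A] [Algebra F A] (hF : Nat.card F = r ^ 2) (n : ℕ) (a b : A) :
    (a + b) ^ (r ^ n) = a ^ (r ^ n) + b ^ (r ^ n) := by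
  induction n with
  | zero => rw [pow_zero, pow_one, pow_one, pow_one]
  | succ n ih => rw [pow_succ r n, pow_mul, pow_mul, pow_mul, ih, add_pow_r (F := F) hF]

theorem pow_r_even (hF : Nat.card F = r ^ 2) (k : ℕ) (a : F) : a ^ (r ^ (2 * k)) = a := by
  have := Fintype.ofFinite F
  rw [pow_mul, ← hF, Nat.card_eq_fintype_card]
  exact FiniteField.pow_card_pow k a

/-- on `F`, the `r ^ d`-th power is the `r`-th power, `d` odd -/
theorem pow_r_odd (hF : Nat.card F = r ^ 2) {d : ℕ} (ho : Odd d) (a : F) : a ^ (r ^ d) = a ^ r := by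
  obtain ⟨k, rfl⟩ := ho
  rw [pow_succ r (2 * k), pow_mul, pow_r_even hF]

variable {L : Type*} [Field L] [Algebra F L] [Finite L]

theorem card_ext (hF : Nat.card F = r ^ 2) : Nat.card L = r ^ (2 * finrank F L) := by
  rw [Module.natCard_eq_pow_finrank (K := F), hF, ← pow_mul]

theorem bar_bar (hF : Nat.card F = r ^ 2) (x : L) : (x ^ (r ^ finrank F L)) ^ (r ^ finrank F L) = x := by
  have := Fintype.ofFinite L
  rw [← pow_mul, ← pow_add, ← two_mul, ← card_ext hF, Nat.card_eq_fintype_card, FiniteField.pow_card]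

theorem trace_bar (hF : Nat.card F = r ^ 2) (ho : Odd (finrank F L)) (x : L) :
    Algebra.trace F L (x ^ (r ^ finrank F L)) = Algebra.trace F L x ^ r := by
  apply (algebraMap F L).injective
  have e1 : algebraMap F L (Algebra.trace F L x ^ r) = (algebraMap F L (Algebra.trace F L x)) ^ (r ^ finrank F L) := by
    rw [← pow_r_odd hF ho, map_pow]
  rw [e1, FiniteField.algebraMap_trace_eq_sum_pow, FiniteField.algebraMap_trace_eq_sum_pow]
  have h : ∀ s : Finset ℕ, (∑ i ∈ s, x ^ (Nat.card F ^ i)) ^ (r ^ finrank F L) =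
      ∑ i ∈ s, (x ^ (r ^ finrank F L)) ^ (Nat.card F ^ i) := by
    intro s
    classical
    induction s using Finset.induction_on with
    | empty =>
      have := two_le_r hF
      rw [Finset.sum_empty, Finset.sum_empty, zero_pow (by positivity)]
    | insert i s hi ih =>
      rw [Finset.sum_insert hi, Finset.sum_insert hi, add_pow_rn (F := F) hF, ih, ← pow_mul, ← pow_mul, mul_comm]
  exact (h _).symm

variable (L) in
/-- the hermitian form `Tr (x y^(r^d))` -/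
noncomputable def minusFrm (hF : Nat.card F = r ^ 2) (ho : Odd (finrank F L)) : Frm F L where
  B x y := Algebra.trace F L (x * y ^ (r ^ finrank F L))
  q _ := 0
  s a := a ^ r
  add_left x y z := by rw [add_mul, map_add]
  add_right x y z := by rw [add_pow_rn (F := F) hF, mul_add, map_add]
  smul_left a x y := by rw [smul_mul_assoc, map_smul, smul_eq_mul]
  smul_right a x y := by
    rw [Algebra.smul_def, mul_pow, ← map_pow, pow_r_odd hF ho, mul_left_comm, ← Algebra.smul_def, map_smul, smul_eq_mul]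
  refl x y h := by
    have h1 : Algebra.trace F L (y * x ^ (r ^ finrank F L)) = Algebra.trace F L (x * y ^ (r ^ finrank F L)) ^ r := by
      rw [← trace_bar hF ho, mul_pow, bar_bar hF, mul_comm]
    have := two_le_r hF
    rw [h1, h, zero_pow (by omega)]
  q_add _ _ _ := (add_zero 0).symm

theorem exists_trace_ne {x : L} (hx : x ≠ 0) : ∃ y : L, Algebra.trace F L (x * y) ≠ 0 := by
  have hfd : FiniteDimensional F L := Module.Finite.of_finite
  have htr := (traceForm_nondegenerate F L).1 x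
  simp_rw [Algebra.traceForm_apply] at htr
  by_contra! hf
  exact hx (htr hf)

theorem isHerm_minus (hF : Nat.card F = r ^ 2) (ho : Odd (finrank F L)) : IsHerm r (minusFrm L hF ho) where
  nd x h := by
    by_contra hx
    obtain ⟨y, hy⟩ := exists_trace_ne (F := F) hx
    apply hy
    have h1 := h (y ^ (r ^ finrank F L))
    change Algebra.trace F L (x * (y ^ (r ^ finrank F L)) ^ (r ^ finrank F L)) = 0 at h1
    rwa [bar_bar hF] at h1
  card := hF
  s _ := rfl
  q _ := rfl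
  symm x y := by
    change Algebra.trace F L (y * x ^ (r ^ finrank F L)) = Algebra.trace F L (x * y ^ (r ^ finrank F L)) ^ r
    rw [← trace_bar hF ho, mul_pow, bar_bar hF, mul_comm]

variable {V : Type*} [AddCommGroup V] [Module F V] {Φ : Frm F V}

/-- the multiplications which are isometries -/
theorem mu_mem_iff (hF : Nat.card F = r ^ 2) (ho : Odd (finrank F L)) (hΦ : IsHerm r Φ) (e : V ≃ₗ[F] L)
    (he : ∀ x y, (minusFrm L hF ho).B (e x) (e y) = Φ.B x y) (t : Lˣ) :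
    mu e t ∈ Φ.Iso ↔ t ^ (r ^ finrank F L + 1) = 1 := by
  have hB : ∀ x y, Φ.B (mu e t x) (mu e t y) =
      Algebra.trace F L (((t : L) ^ (r ^ finrank F L + 1)) * (e x * (e y) ^ (r ^ finrank F L))) := by
    intro x y
    rw [← he, e_mu, e_mu]
    change Algebra.trace F L ((t * e x) * (t * e y) ^ (r ^ finrank F L)) = _
    rw [mul_pow, pow_succ]
    congr 1
    ring
  constructor
  · intro h
    by_contra hne
    have h1 : (t : L) ^ (r ^ finrank F L + 1) - 1 ≠ 0 := by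
      intro h1
      apply hne
      apply Units.ext
      rw [Units.val_pow_eq_pow_val, Units.val_one]
      exact sub_eq_zero.1 h1
    obtain ⟨y, hy⟩ := exists_trace_ne (F := F) h1
    apply hy
    have h2 := h.1 (e.symm y) (e.symm 1)
    rw [hB, e.apply_symm_apply, e.apply_symm_apply, one_pow, mul_one, ← he, e.apply_symm_apply,
      e.apply_symm_apply] at h2
    change _ = Algebra.trace F L (y * 1 ^ (r ^ finrank F L)) at h2
    rw [one_pow, mul_one] at h2
    rw [sub_mul, one_mul, map_sub, h2, sub_self]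
  · intro h
    refine ⟨fun x y => ?_, fun x => by rw [hΦ.q, hΦ.q]⟩
    have h1 : (t : L) ^ (r ^ finrank F L + 1) = 1 := by
      rw [← Units.val_pow_eq_pow_val, h, Units.val_one]
    rw [hB, h1, one_mul, ← he]
    rfl

theorem card_T (hF : Nat.card F = r ^ 2) : Nat.card {t : Lˣ // t ^ (r ^ finrank F L + 1) = 1} = r ^ finrank F L + 1 := by
  apply card_pow_eq_one
  rw [Nat.card_units, card_ext hF]
  refine ⟨r ^ finrank F L - 1, ?_⟩
  rw [two_mul, pow_add, ← Nat.sq_sub_sq, one_pow, pow_two]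

/-- generators in a subset of the units -/
theorem card_gen_ge (ho : Odd (finrank F L)) (S : Set Lˣ) :
    Nat.card S ≤ Nat.card {t : Lˣ // t ∈ S ∧ Gen F (t : L)} + 2 * Nat.card F ^ (finrank F L / 3) := by
  classical
  have h1 : Nat.card S ≤ Nat.card {t : Lˣ // t ∈ S ∧ Gen F (t : L)} + Nat.card {t : Lˣ // ¬ Gen F (t : L)} := by
    have := Fintype.ofFinite Lˣ
    rw [Nat.card_eq_fintype_card, Nat.card_eq_fintype_card, Nat.card_eq_fintype_card, ← Set.toFinset_card,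
      Fintype.card_subtype, Fintype.card_subtype]
    refine (Finset.card_le_card ?_).trans (Finset.card_union_le _ _)
    intro t ht
    rw [Set.mem_toFinset] at ht
    simp only [Finset.mem_union, Finset.mem_filter, Finset.mem_univ, true_and]
    tauto
  exact h1.trans (Nat.add_le_add_left (card_unit_not_gen_le.trans (card_not_gen_third ho)) _)

end field

section count

variable {F V : Type*} [Field F] [AddCommGroup V] [Module F V] [Finite F] [FiniteDimensional F V] {r d : ℕ} {Φ : Frm F V}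

theorem irr_conj {x g : V ≃ₗ[F] V} (h : Irr x (⊤ : Submodule F V)) : Irr (g * x * g⁻¹) (⊤ : Submodule F V) where
  inv := fun _ _ => Submodule.mem_top
  ne_bot := h.ne_bot
  min := by
    intro Y _ hY
    have h1 := h.min (Y.comap (g : V →ₗ[F] V)) le_top (by
      intro v hv
      rw [Submodule.mem_comap] at hv ⊢
      have h2 := hY _ hv
      have h3 : (g * x * g⁻¹) ((g : V →ₗ[F] V) v) = g (x v) := by
        change g (x (g.symm (g v))) = _
        rw [g.symm_apply_apply]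
      rw [h3] at h2
      exact h2)
    rcases h1 with h1 | h1
    · left
      rw [eq_bot_iff]
      intro v hv
      have h2 : g.symm v ∈ Y.comap (g : V →ₗ[F] V) := by
        rw [Submodule.mem_comap]
        change g (g.symm v) ∈ Y
        rwa [g.apply_symm_apply]
      rw [h1, Submodule.mem_bot, LinearEquiv.map_eq_zero_iff] at h2
      rwa [Submodule.mem_bot]
    · right
      rw [eq_top_iff]
      intro v _
      have h2 : g.symm v ∈ Y.comap (g : V →ₗ[F] V) := by rw [h1]; exact Submodule.mem_top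
      rw [Submodule.mem_comap] at h2
      change g (g.symm v) ∈ Y at h2
      rwa [g.apply_symm_apply] at h2

theorem det_mu {L : Type*} [Field L] [Algebra F L] (e : V ≃ₗ[F] L) (t : Lˣ) :
    LinearMap.det (mu e t : V →ₗ[F] V) = Algebra.norm F (t : L) := by
  have h1 : (mu e t : V →ₗ[F] V) = (e.symm : L →ₗ[F] V) ∘ₗ (Algebra.lmul F L (t : L)) ∘ₗ (e : V →ₗ[F] L) := by
    ext v
    rfl
  rw [h1]
  have h2 := LinearMap.det_conj (Algebra.lmul F L (t : L)) e.symm
  rw [LinearEquiv.symm_symm] at h2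
  rw [Algebra.norm_apply]
  exact h2

theorem det_conj' (x g : V ≃ₗ[F] V) :
    LinearMap.det ((g * x * g⁻¹ : V ≃ₗ[F] V) : V →ₗ[F] V) = LinearMap.det (x : V →ₗ[F] V) := by
  have h2 := LinearMap.det_conj (x : V →ₗ[F] V) g
  exact h2

theorem finite_equiv' (F V : Type*) [Field F] [AddCommGroup V] [Module F V] [Finite V] : Finite (V ≃ₗ[F] V) :=
  Finite.of_injective (fun g : V ≃ₗ[F] V => (g : V → V)) DFunLike.coe_injective

/-- the counting argument, with a condition on the determinant -/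
theorem minus_count (hΦ : IsHerm r Φ) (hd : finrank F V = d) (ho : Odd d) (P : F → Prop) :
    ∃ (L : Type) (_ : Field L) (_ : Algebra F L) (_ : Finite L), finrank F L = d ∧
    Nat.card Φ.Iso * Nat.card {t : Lˣ // (t ^ (r ^ d + 1) = 1 ∧ P (Algebra.norm F (t : L))) ∧ Gen F (t : L)} ≤
      d * (r ^ d + 1) * Nat.card {x : V ≃ₗ[F] V // x ∈ Φ.Bm ∧ P (LinearMap.det (x : V →ₗ[F] V))} := by
  have hVfin : Finite V := Module.finite_of_finite F
  have hGfin := finite_equiv' F V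
  obtain ⟨p, hp⟩ := CharP.exists F
  have hpf : Fact p.Prime := ⟨CharP.char_is_prime F p⟩
  have hd0 : NeZero d := ⟨by rintro rfl; exact absurd ho (by decide)⟩
  have hL : finrank F (FiniteField.Extension F p d) = d := FiniteField.finrank_extension F p d
  refine ⟨FiniteField.Extension F p d, inferInstance, inferInstance, inferInstance, hL, ?_⟩
  set L := FiniteField.Extension F p d with hLdef
  have ho' : Odd (finrank F L) := by rw [hL]; exact ho
  have hF := hΦ.card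
  obtain ⟨e, he⟩ := exists_isom hΦ (isHerm_minus (L := L) hF ho') (by rw [hd, hL])
  have h1 := irr_count e Φ.Iso {t : Lˣ | (t ^ (r ^ d + 1) = 1 ∧ P (Algebra.norm F (t : L))) ∧ Gen F (t : L)}
    (fun t ht => ht.2)
  rw [hd] at h1
  have h2 : Nat.card {c : Lˣ // mu e c ∈ Φ.Iso} = r ^ d + 1 := by
    have h3 := card_T (L := L) hF
    rw [hL] at h3
    rw [← h3]
    refine Nat.card_congr (Equiv.subtypeEquivRight fun t => ?_)
    rw [mu_mem_iff hF ho' hΦ e he, hL]
  rw [h2] at h1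
  refine h1.trans (Nat.mul_le_mul_left _ ?_)
  refine Nat.card_le_card_of_injective (fun z => (⟨z.1, ?_⟩ :
    {x : V ≃ₗ[F] V // x ∈ Φ.Bm ∧ P (LinearMap.det (x : V →ₗ[F] V))})) fun a b h => Subtype.ext (Subtype.mk.inj h)
  obtain ⟨g, hg, t, ht, hz⟩ := z.2
  have ht' : mu e t ∈ Φ.Iso := by
    rw [mu_mem_iff hF ho' hΦ e he, hL]
    exact ht.1.1
  rw [hz]
  refine ⟨⟨Φ.Iso.mul_mem (Φ.Iso.mul_mem hg ht') (Φ.Iso.inv_mem hg), irr_conj (irr_mu e ht.2)⟩, ?_⟩
  rw [det_conj', det_mu]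
  exact ht.1.2

end count

section numeric

theorem num_aux (m i : ℕ) : (1 : ℝ) ≤ (4 / 5 : ℝ) ^ (3 * m + i) * 2 ^ (m + i) := by
  have h1 : (4 / 5 : ℝ) ^ (3 * m + i) * 2 ^ (m + i) = (128 / 125 : ℝ) ^ m * (8 / 5 : ℝ) ^ i := by
    rw [pow_add, pow_add, pow_mul]
    calc ((4 / 5 : ℝ) ^ 3) ^ m * (4 / 5) ^ i * (2 ^ m * 2 ^ i) = (((4 / 5 : ℝ) ^ 3) ^ m * 2 ^ m) * ((4 / 5) ^ i * 2 ^ i) := by
          ring
      _ = ((4 / 5 : ℝ) ^ 3 * 2) ^ m * ((4 / 5) * 2) ^ i := by rw [mul_pow, mul_pow]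
      _ = (128 / 125 : ℝ) ^ m * (8 / 5 : ℝ) ^ i := by norm_num
  rw [h1]
  have h2 : (1 : ℝ) ≤ (128 / 125 : ℝ) ^ m := one_le_pow₀ (by norm_num)
  have h3 : (1 : ℝ) ≤ (8 / 5 : ℝ) ^ i := one_le_pow₀ (by norm_num)
  nlinarith

/-- `2 r^(2 (d/3)) ≤ 16 (4/5)^d (r^d + 1)` -/
theorem num_minus {r : ℕ} (hr : 2 ≤ r) (d : ℕ) :
    (2 * ((r : ℝ) ^ 2) ^ (d / 3)) ≤ 16 * (4 / 5 : ℝ) ^ d * ((r : ℝ) ^ d + 1) := by
  obtain ⟨m, i, hm, rfl⟩ : ∃ m i : ℕ, d / 3 = m ∧ d = 3 * m + i := ⟨d / 3, d % 3, rfl, (Nat.div_add_mod d 3).symm⟩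
  rw [hm]
  have hr' : (2 : ℝ) ≤ r := by exact_mod_cast hr
  have h1 := num_aux m i
  have h2 : (2 : ℝ) ^ (m + i) ≤ (r : ℝ) ^ (m + i) := pow_le_pow_left₀ (by norm_num) hr' _
  have h3 : (r : ℝ) ^ (3 * m + i) = ((r : ℝ) ^ 2) ^ m * (r : ℝ) ^ (m + i) := by
    rw [← pow_mul, ← pow_add]
    congr 1
    omega
  have h4 : (0 : ℝ) < (4 / 5 : ℝ) ^ (3 * m + i) := by positivity
  have h5 : (0 : ℝ) < ((r : ℝ) ^ 2) ^ m := by positivity
  have h6 : (1 : ℝ) ≤ (4 / 5 : ℝ) ^ (3 * m + i) * (r : ℝ) ^ (m + i) :=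
    h1.trans (mul_le_mul_of_nonneg_left h2 h4.le)
  calc 2 * ((r : ℝ) ^ 2) ^ m ≤ 16 * ((r : ℝ) ^ 2) ^ m * 1 := by nlinarith
    _ ≤ 16 * ((r : ℝ) ^ 2) ^ m * ((4 / 5 : ℝ) ^ (3 * m + i) * (r : ℝ) ^ (m + i)) :=
        mul_le_mul_of_nonneg_left h6 (by positivity)
    _ = 16 * (4 / 5 : ℝ) ^ (3 * m + i) * (r : ℝ) ^ (3 * m + i) := by rw [h3]; ring
    _ ≤ 16 * (4 / 5 : ℝ) ^ (3 * m + i) * ((r : ℝ) ^ (3 * m + i) + 1) := by nlinarith

end numeric

section norm

variable {F : Type*} [Field F] [Finite F] {r : ℕ} {L : Type*} [Field L] [Algebra F L] [Finite L]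

theorem units_pow_odd (hF : Nat.card F = r ^ 2) {d : ℕ} (ho : Odd d) (a : Fˣ) : a ^ (r ^ d) = a ^ r := by
  apply Units.ext
  rw [Units.val_pow_eq_pow_val, Units.val_pow_eq_pow_val, pow_r_odd hF ho]

/-- the elements of `F` of norm one are the `(r-1)`-th powers -/
theorem exists_pow_eq (hF : Nat.card F = r ^ 2) {κ : Fˣ} (h : κ ^ (r + 1) = 1) : ∃ l : Fˣ, l ^ (r - 1) = κ := by
  have hr := two_le_r hF
  have hcard : Nat.card Fˣ = (r + 1) * (r - 1) := by
    rw [Nat.card_units, hF, ← Nat.sq_sub_sq, one_pow]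
  have h1 : Nat.card (powMonoidHom (r - 1) : Fˣ →* Fˣ).range = r + 1 := by
    rw [IsCyclic.card_powMonoidHom_range, hcard, Nat.gcd_eq_right (Dvd.intro_left _ rfl)]
    exact Nat.mul_div_cancel _ (by omega)
  have h2 : Nat.card (powMonoidHom (r + 1) : Fˣ →* Fˣ).ker = r + 1 := by
    rw [IsCyclic.card_powMonoidHom_ker, hcard, Nat.gcd_eq_right (Dvd.intro _ rfl)]
  have h3 : (powMonoidHom (r - 1) : Fˣ →* Fˣ).range ≤ (powMonoidHom (r + 1) : Fˣ →* Fˣ).ker := by
    rintro _ ⟨l, rfl⟩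
    rw [MonoidHom.mem_ker]
    change (l ^ (r - 1)) ^ (r + 1) = 1
    rw [← pow_mul, mul_comm, ← hcard]
    exact pow_card_eq_one'
  have h4 := Subgroup.eq_of_le_of_card_ge h3 (by rw [h1, h2])
  have h5 : κ ∈ (powMonoidHom (r + 1) : Fˣ →* Fˣ).ker := h
  rw [← h4] at h5
  exact h5

/-- the number of elements of `T` of given norm -/
theorem card_norm (hF : Nat.card F = r ^ 2) (ho : Odd (finrank F L)) {κ : F} (hκ : κ ^ (r + 1) = 1) :
    Nat.card {t : Lˣ // t ^ (r ^ finrank F L + 1) = 1 ∧ Algebra.norm F (t : L) = κ} * (r + 1) =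
      r ^ finrank F L + 1 := by
  have hr := two_le_r hF
  set N : Lˣ →* Fˣ := Units.map (Algebra.norm F) with hN
  set T : Subgroup Lˣ := (powMonoidHom (r ^ finrank F L + 1) : Lˣ →* Lˣ).ker with hT
  set f : T →* Fˣ := N.comp T.subtype with hf
  have hcardF : Nat.card Fˣ = (r + 1) * (r - 1) := by
    rw [Nat.card_units, hF, ← Nat.sq_sub_sq, one_pow]
  have hcardL : Nat.card Lˣ = (r ^ finrank F L + 1) * (r ^ finrank F L - 1) := by
    rw [Nat.card_units, card_ext hF, ← Nat.sq_sub_sq, one_pow, ← pow_mul, mul_comm 2]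
  have hrange : f.range = (powMonoidHom (r + 1) : Fˣ →* Fˣ).ker := by
    ext k
    constructor
    · rintro ⟨t, rfl⟩
      rw [MonoidHom.mem_ker]
      change (N t) ^ (r + 1) = 1
      have h1 : (t : Lˣ) ^ (r ^ finrank F L + 1) = 1 := t.2
      have h2 : N t ^ (r ^ finrank F L + 1) = 1 := by rw [← map_pow, h1, map_one]
      rw [pow_succ, units_pow_odd hF ho, ← pow_succ] at h2
      exact h2
    · intro hk
      obtain ⟨l, hl⟩ := exists_pow_eq hF (κ := k) hk
      obtain ⟨y, hy⟩ := FiniteField.unitsMap_norm_surjective F L l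
      refine ⟨⟨y ^ (r ^ finrank F L - 1), ?_⟩, ?_⟩
      · rw [hT, MonoidHom.mem_ker]
        change (y ^ (r ^ finrank F L - 1)) ^ (r ^ finrank F L + 1) = 1
        rw [← pow_mul, mul_comm, ← hcardL]
        exact pow_card_eq_one'
      · change N (y ^ (r ^ finrank F L - 1)) = k
        rw [map_pow, hN, hy, ← hl]
        have h1 : 1 ≤ r ^ finrank F L := Nat.one_le_pow _ _ (by omega)
        have h2 : l ^ (r ^ finrank F L - 1) * l = l ^ (r - 1) * l := by
          rw [← pow_succ, ← pow_succ, Nat.sub_add_cancel h1, Nat.sub_add_cancel (by omega), units_pow_odd hF ho]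
        exact mul_right_cancel h2
  have hκ0 : κ ≠ 0 := by
    rintro rfl
    rw [zero_pow (by omega)] at hκ
    exact zero_ne_one hκ
  have hmem : Units.mk0 κ hκ0 ∈ f.range := by
    rw [hrange, MonoidHom.mem_ker]
    exact Units.ext hκ
  have h1 := card_fiber f hmem
  have h2 : Nat.card f.range = r + 1 := by
    rw [hrange, IsCyclic.card_powMonoidHom_ker, hcardF, Nat.gcd_eq_right (Dvd.intro _ rfl)]
  have h3 : Nat.card T = r ^ finrank F L + 1 := by
    rw [hT, IsCyclic.card_powMonoidHom_ker, hcardL, Nat.gcd_eq_right (Dvd.intro _ rfl)]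
  rw [h2, h3] at h1
  have h4 : Nat.card {t : Lˣ // t ^ (r ^ finrank F L + 1) = 1 ∧ Algebra.norm F (t : L) = κ} =
      Nat.card {a : T // f a = Units.mk0 κ hκ0} := by
    refine Nat.card_congr
      { toFun := fun t => ⟨⟨t.1, t.2.1⟩, Units.ext t.2.2⟩
        invFun := fun t => ⟨t.1.1, t.1.2, congrArg Units.val t.2⟩
        left_inv := fun t => rfl
        right_inv := fun t => rfl }
  rw [h4, h1]

end norm

theorem num_adj {r : ℕ} (hr : 2 ≤ r) {d : ℕ} (hd : 9 ≤ d) :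
    8 * (r + 1) * (r ^ 2) ^ (d / 3) ≤ 3 * (r ^ d + 1) := by
  obtain ⟨m, i, hm, rfl⟩ : ∃ m i : ℕ, d / 3 = m ∧ d = 3 * m + i := ⟨d / 3, d % 3, rfl, (Nat.div_add_mod d 3).symm⟩
  rw [hm]
  have hm3 : 3 ≤ m := by omega
  have h1 : r ^ (3 * m) ≤ r ^ (3 * m + i) := Nat.pow_le_pow_right (by omega) (by omega)
  have h2 : r ^ (3 * m) = (r ^ 2) ^ m * r ^ m := by
    rw [← pow_mul, ← pow_add]
    congr 1
    omega
  have h3 : 8 * (r + 1) ≤ 3 * r ^ m := by
    have h4 : r ^ 3 ≤ r ^ m := Nat.pow_le_pow_right (by omega) hm3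
    have h5 : 8 * (r + 1) ≤ 3 * r ^ 3 := by
      have h6 : r ^ 3 = r * r * r := by ring
      nlinarith
    omega
  calc 8 * (r + 1) * (r ^ 2) ^ m ≤ 3 * r ^ m * (r ^ 2) ^ m := Nat.mul_le_mul_right _ h3
    _ = 3 * r ^ (3 * m) := by rw [h2]; ring
    _ ≤ 3 * (r ^ (3 * m + i) + 1) := by omega

section main

variable {F V : Type*} [Field F] [AddCommGroup V] [Module F V] [Finite F] [FiniteDimensional F V] {r d : ℕ} {Φ : Frm F V}

/-- **BS06 (1).** -/
theorem herm_minus (hΦ : IsHerm r Φ) (hd : finrank F V = d) (ho : Odd d) :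
    ar d / d * (Nat.card Φ.Iso : ℝ) ≤ Nat.card Φ.Bm := by
  obtain ⟨L, _, _, _, hL, h⟩ := minus_count hΦ hd ho (fun _ => True)
  have hF := hΦ.card
  have hr := two_le_r hF
  have ho' : Odd (finrank F L) := by rw [hL]; exact ho
  have h1 := card_gen_ge (F := F) (L := L) ho' {t : Lˣ | t ^ (r ^ d + 1) = 1 ∧ True}
  have h2 : Nat.card ({t : Lˣ | t ^ (r ^ d + 1) = 1 ∧ True} : Set Lˣ) = r ^ d + 1 := by
    have h3 := card_T (L := L) hF
    rw [hL] at h3
    conv_rhs => rw [← h3]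
    exact Nat.card_congr (Equiv.subtypeEquivRight fun t => by simp)
  have h3 : Nat.card {x : V ≃ₗ[F] V // x ∈ Φ.Bm ∧ True} = Nat.card Φ.Bm :=
    Nat.card_congr (Equiv.subtypeEquivRight fun x => by simp)
  rw [h3] at h
  rw [h2, hL, hF] at h1
  set E := Nat.card {t : Lˣ // (t ^ (r ^ d + 1) = 1 ∧ True) ∧ Gen F (t : L)} with hE
  have hEeq : Nat.card {t : Lˣ // t ∈ ({t : Lˣ | t ^ (r ^ d + 1) = 1 ∧ True} : Set Lˣ) ∧ Gen F (t : L)} = E := rfl
  rw [hEeq] at h1
  have hd0 : (0 : ℝ) < d := by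
    have : d ≠ 0 := by rintro rfl; exact absurd ho (by decide)
    exact_mod_cast Nat.pos_of_ne_zero this
  have h1' : ((r : ℝ) ^ d + 1) ≤ E + 2 * ((r : ℝ) ^ 2) ^ (d / 3) := by exact_mod_cast h1
  have h4 := num_minus hr d
  have h5 : ar d * ((r : ℝ) ^ d + 1) ≤ E := by
    unfold ar
    nlinarith
  have h' : (Nat.card Φ.Iso : ℝ) * E ≤ d * ((r : ℝ) ^ d + 1) * Nat.card Φ.Bm := by exact_mod_cast h
  have h6 : (0 : ℝ) < (r : ℝ) ^ d + 1 := by positivity
  have h7 : (0 : ℝ) ≤ Nat.card Φ.Iso := Nat.cast_nonneg _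
  rw [div_mul_eq_mul_div, div_le_iff₀ hd0]
  have h8 : ar d * (Nat.card Φ.Iso : ℝ) * ((r : ℝ) ^ d + 1) ≤ (Nat.card Φ.Bm * d : ℝ) * ((r : ℝ) ^ d + 1) := by
    calc ar d * (Nat.card Φ.Iso : ℝ) * ((r : ℝ) ^ d + 1) = (Nat.card Φ.Iso : ℝ) * (ar d * ((r : ℝ) ^ d + 1)) := by ring
      _ ≤ (Nat.card Φ.Iso : ℝ) * E := mul_le_mul_of_nonneg_left h5 h7
      _ ≤ d * ((r : ℝ) ^ d + 1) * Nat.card Φ.Bm := h'
      _ = (Nat.card Φ.Bm * d : ℝ) * ((r : ℝ) ^ d + 1) := by ring
  exact le_of_mul_le_mul_right h8 h6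

/-- **BS06 (3).** -/
theorem herm_adj (hΦ : IsHerm r Φ) (hd : finrank F V = d) (ho : Odd d) (h9 : 9 ≤ d) {κ : F} (hκ : κ ^ (r + 1) = 1) :
    Nat.card Φ.Iso ≤ 4 * d * (r + 1) *
      Nat.card {x : V ≃ₗ[F] V // x ∈ Φ.Bm ∧ LinearMap.det (x : V →ₗ[F] V) = κ} := by
  obtain ⟨L, _, _, _, hL, h⟩ := minus_count hΦ hd ho (fun a => a = κ)
  have hF := hΦ.card
  have hr := two_le_r hF
  have ho' : Odd (finrank F L) := by rw [hL]; exact ho
  have h1 := card_gen_ge (F := F) (L := L) ho' {t : Lˣ | t ^ (r ^ d + 1) = 1 ∧ Algebra.norm F (t : L) = κ}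
  have h2 := card_norm (L := L) hF ho' hκ
  rw [hL] at h2
  rw [hL, hF] at h1
  set E := Nat.card {t : Lˣ // (t ^ (r ^ d + 1) = 1 ∧ Algebra.norm F (t : L) = κ) ∧ Gen F (t : L)} with hE
  have hEeq : Nat.card {t : Lˣ // t ∈ ({t : Lˣ | t ^ (r ^ d + 1) = 1 ∧ Algebra.norm F (t : L) = κ} : Set Lˣ) ∧
    Gen F (t : L)} = E := rfl
  set S := Nat.card {t : Lˣ // t ^ (r ^ d + 1) = 1 ∧ Algebra.norm F (t : L) = κ} with hS
  have hSeq : Nat.card ({t : Lˣ | t ^ (r ^ d + 1) = 1 ∧ Algebra.norm F (t : L) = κ} : Set Lˣ) = S := rfl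
  rw [hEeq, hSeq] at h1
  set C := Nat.card {x : V ≃ₗ[F] V // x ∈ Φ.Bm ∧ LinearMap.det (x : V →ₗ[F] V) = κ} with hC
  have h4 := num_adj hr h9
  -- `r ^ d + 1 ≤ 4 (r + 1) E`
  have h5 : r ^ d + 1 ≤ 4 * (r + 1) * E := by
    have h6 : S * (r + 1) ≤ (E + 2 * (r ^ 2) ^ (d / 3)) * (r + 1) := Nat.mul_le_mul_right _ h1
    rw [h2] at h6
    nlinarith
  have h6 : Nat.card Φ.Iso * (r ^ d + 1) ≤ (4 * d * (r + 1) * C) * (r ^ d + 1) := by
    calc Nat.card Φ.Iso * (r ^ d + 1) ≤ Nat.card Φ.Iso * (4 * (r + 1) * E) := Nat.mul_le_mul_left _ h5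
      _ = 4 * (r + 1) * (Nat.card Φ.Iso * E) := by ring
      _ ≤ 4 * (r + 1) * (d * (r ^ d + 1) * C) := Nat.mul_le_mul_left _ h
      _ = (4 * d * (r + 1) * C) * (r ^ d + 1) := by ring
  exact Nat.le_of_mul_le_mul_right h6 (Nat.succ_pos _)

end main

end Cfsg.Agent.H881.Bs
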