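import Cfsg.Agent.H847.Bs.Defs2
import Cfsg.Agent.ClassicalGeometry.HermWitt

/-!
# S5733: hermitian forms `IsHerm r Φ`: orthonormal bases, isometries

* `sig` : the automorphism `a ↦ a ^ r` of the field with `r²` elements;
* `exists_onb` : orthonormal bases;
* `exists_isom` : hermitian spaces of the same dimension are isometric.
-/

set_option autoImplicit false
set_option linter.unusedSectionVars false

namespace Cfsg.Agent.H881.Bs

open Cfsg.Agent.H847.Bs Module

section sig

variable {F : Type*} [Field F] {r : ℕ}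

theorem finite_of_card (hF : Nat.card F = r ^ 2) (hr : r ≠ 0) : Finite F :=
  Nat.finite_of_card_ne_zero (by rw [hF]; positivity)

theorem exists_prime_pow [Finite F] (hF : Nat.card F = r ^ 2) : ∃ p k : ℕ, p.Prime ∧ CharP F p ∧ 1 ≤ k ∧ r = p ^ k := by
  have := Fintype.ofFinite F
  obtain ⟨n, hp, hn⟩ := FiniteField.card F (ringChar F)
  have h1 : r ∣ ringChar F ^ (n : ℕ) := by
    rw [← hn, ← Nat.card_eq_fintype_card, hF, pow_two]
    exact Dvd.intro _ rfl
  obtain ⟨k, -, rfl⟩ := (Nat.dvd_prime_pow hp).1 h1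
  refine ⟨ringChar F, k, hp, ringChar.charP F, ?_, rfl⟩
  by_contra h0
  have h2 : k = 0 := by omega
  subst h2
  rw [pow_zero, one_pow] at hF
  have h3 : 1 < Nat.card F := Finite.one_lt_card
  omega

theorem two_le_r [Finite F] (hF : Nat.card F = r ^ 2) : 2 ≤ r := by
  obtain ⟨p, k, hp, -, hk, rfl⟩ := exists_prime_pow hF
  calc 2 ≤ p := hp.two_le
    _ = p ^ 1 := (pow_one p).symm
    _ ≤ p ^ k := Nat.pow_le_pow_right hp.pos hk

theorem finite_of_herm (hF : Nat.card F = r ^ 2) (hr : 2 ≤ r) : Finite F := finite_of_card hF (by omega)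

theorem add_pow_r {A : Type*} [CommRing A] [Algebra F A] [Finite F] (hF : Nat.card F = r ^ 2) (a b : A) :
    (a + b) ^ r = a ^ r + b ^ r := by
  obtain ⟨p, k, hp, hc, -, rfl⟩ := exists_prime_pow hF
  have := Fact.mk hp
  rcases subsingleton_or_nontrivial A with h | h
  · exact Subsingleton.elim _ _
  · have : CharP A p := charP_of_injective_algebraMap (algebraMap F A).injective p
    exact add_pow_char_pow _ _ _ _

theorem pow_r_r [Finite F] (hF : Nat.card F = r ^ 2) (a : F) : (a ^ r) ^ r = a := by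
  have := Fintype.ofFinite F
  rw [← pow_mul, ← pow_two, ← hF, Nat.card_eq_fintype_card, FiniteField.pow_card]

/-- `a ↦ a ^ r` -/
def sig [Finite F] (hF : Nat.card F = r ^ 2) : F →+* F where
  toFun a := a ^ r
  map_one' := one_pow r
  map_mul' a b := mul_pow a b r
  map_zero' := zero_pow (by have := two_le_r hF; omega)
  map_add' a b := add_pow_r (F := F) hF a b

theorem sig_apply [Finite F] (hF : Nat.card F = r ^ 2) (a : F) : sig hF a = a ^ r := rfl

theorem sig_sig [Finite F] (hF : Nat.card F = r ^ 2) (a : F) : sig hF (sig hF a) = a := pow_r_r hF a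

theorem sig_ne [Finite F] (hF : Nat.card F = r ^ 2) : sig hF ≠ RingHom.id F := by
  intro h
  have hr := two_le_r hF
  have h1 : ∀ a : F, a ^ r = a := fun a => by
    have := congrArg (fun f : F →+* F => f a) h
    exact this
  have h0 : (Polynomial.X ^ r - Polynomial.X : Polynomial F) ≠ 0 := by
    intro h
    have h1 := congrArg (fun p => Polynomial.coeff p r) h
    simp only [Polynomial.coeff_sub, Polynomial.coeff_X_pow, if_true, Polynomial.coeff_zero] at h1
    rw [Polynomial.coeff_X_of_ne_one (by omega), sub_zero] at h1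
    exact one_ne_zero h1
  classical
  have := Fintype.ofFinite F
  have h2 : (Finset.univ : Finset F) ⊆ (Polynomial.X ^ r - Polynomial.X : Polynomial F).roots.toFinset := by
    intro a _
    rw [Multiset.mem_toFinset, Polynomial.mem_roots h0, Polynomial.IsRoot.def, Polynomial.eval_sub,
      Polynomial.eval_pow, Polynomial.eval_X, h1, sub_self]
  have h3 := (Finset.card_le_card h2).trans ((Multiset.toFinset_card_le _).trans (Polynomial.card_roots' _))
  have h4 := h3.trans (Polynomial.natDegree_sub_le _ _)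
  rw [Polynomial.natDegree_X_pow, Polynomial.natDegree_X, Finset.card_univ, ← Nat.card_eq_fintype_card, hF] at h4
  have h5 : r < r ^ 2 := by nlinarith
  have h6 : max r 1 = r := by omega
  omega

end sig

section form

variable {F V : Type*} [Field F] [AddCommGroup V] [Module F V] [Finite F] {r : ℕ} {Φ : Frm F V}

/-- the sesquilinear form of Mathlib (semilinear in the first variable) -/
def sesq (hΦ : IsHerm r Φ) : V →ₛₗ[sig hΦ.card] V →ₗ[F] F :=
  LinearMap.mk₂'ₛₗ (sig hΦ.card) (RingHom.id F) (fun x y => Φ.B y x)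
    (fun x x' y => Φ.add_right y x x')
    (fun a x y => by rw [Φ.smul_right, hΦ.s, smul_eq_mul, sig_apply])
    (fun x y y' => Φ.add_left y y' x)
    (fun a x y => by rw [Φ.smul_left, smul_eq_mul, RingHom.id_apply])

theorem sesq_apply (hΦ : IsHerm r Φ) (x y : V) : sesq hΦ x y = Φ.B y x := rfl

theorem sesq_symm (hΦ : IsHerm r Φ) : (sesq hΦ).IsSymm := ⟨fun x y => by
  rw [sesq_apply, sesq_apply, sig_apply, hΦ.symm y x]⟩

theorem sesq_sep (hΦ : IsHerm r Φ) : (sesq hΦ).SeparatingLeft := by
  intro x h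
  refine hΦ.nd x fun y => ?_
  have h1 : Φ.B y x = 0 := h y
  exact Φ.refl _ _ h1

theorem B_sum_left (Φ : Frm F V) {ι : Type*} (s : Finset ι) (c : ι → F) (f : ι → V) (y : V) :
    Φ.B (∑ i ∈ s, c i • f i) y = ∑ i ∈ s, c i * Φ.B (f i) y := by
  classical
  induction s using Finset.induction_on with
  | empty =>
    rw [Finset.sum_empty, Finset.sum_empty]
    have := Φ.smul_left 0 0 y
    rwa [zero_smul, zero_mul] at this
  | insert i s hi ih => rw [Finset.sum_insert hi, Finset.sum_insert hi, Φ.add_left, Φ.smul_left, ih]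

theorem B_sum_right (Φ : Frm F V) {ι : Type*} (s : Finset ι) (c : ι → F) (f : ι → V) (x : V) :
    Φ.B x (∑ i ∈ s, c i • f i) = ∑ i ∈ s, Φ.s (c i) * Φ.B x (f i) := by
  classical
  induction s using Finset.induction_on with
  | empty =>
    rw [Finset.sum_empty, Finset.sum_empty]
    have := Φ.add_right x 0 0
    rw [add_zero] at this
    exact left_eq_add.1 this
  | insert i s hi ih => rw [Finset.sum_insert hi, Finset.sum_insert hi, Φ.add_right, Φ.smul_right, ih]

variable [FiniteDimensional F V]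

theorem exists_onf (hΦ : IsHerm r Φ) {k : ℕ} (hk : k ≤ finrank F V) :
    ∃ w : Fin k → V, ∀ i l, Φ.B (w i) (w l) = if i = l then 1 else 0 := by
  induction k with
  | zero => exact ⟨fun i => i.elim0, fun i => i.elim0⟩
  | succ k ih =>
    obtain ⟨w, hw⟩ := ih (by omega)
    have hX : ∀ x ∈ Submodule.span F (Set.range w), (∀ y ∈ Submodule.span F (Set.range w), sesq hΦ x y = 0) →
        x = 0 := by
      intro x hx h
      obtain ⟨c, rfl⟩ := (Submodule.mem_span_range_iff_exists_fun F).1 hx
      refine Finset.sum_eq_zero fun i _ => ?_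
      have h1 : Φ.B (w i) (∑ l, c l • w l) = 0 := h (w i) (Submodule.subset_span ⟨i, rfl⟩)
      have h2 := Φ.refl _ _ h1
      rw [B_sum_left] at h2
      simp only [hw, mul_ite, mul_one, mul_zero, Finset.sum_ite_eq', Finset.mem_univ, if_true] at h2
      rw [h2, zero_smul]
    have hne : Submodule.span F (Set.range w) ≠ ⊤ := by
      intro e
      have h1 : finrank F (Submodule.span F (Set.range w)) ≤ k := by
        have := finrank_range_le_card (R := F) w
        rwa [Fintype.card_fin] at this
      rw [e, finrank_top] at h1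
      omega
    obtain ⟨v, -, hv, hvv⟩ := Cfsg.Agent.ClassicalGeometry.HermWitt.exists_unit_perp (sig hΦ.card) (sesq hΦ)
      (sig_ne _) (sig_sig _) (sesq_symm hΦ) (sesq_sep hΦ) _ hX hne
    have hv1 : ∀ i, Φ.B (w i) v = 0 := fun i => hv _ (Submodule.subset_span ⟨i, rfl⟩)
    have hvv' : Φ.B v v = 1 := hvv
    refine ⟨Fin.snoc w v, fun i l => ?_⟩
    refine Fin.lastCases ?_ (fun i => ?_) i <;> refine Fin.lastCases ?_ (fun l => ?_) l
    · rw [Fin.snoc_last, if_pos rfl]; exact hvv'
    · rw [Fin.snoc_last, Fin.snoc_castSucc, if_neg (Fin.castSucc_lt_last l).ne']; exact Φ.refl _ _ (hv1 l)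
    · rw [Fin.snoc_last, Fin.snoc_castSucc, if_neg (Fin.castSucc_lt_last i).ne]; exact hv1 i
    · rw [Fin.snoc_castSucc, Fin.snoc_castSucc, hw]
      simp only [Fin.castSucc_inj]

/-- **orthonormal bases** -/
theorem exists_onb (hΦ : IsHerm r Φ) : ∃ b : Basis (Fin (finrank F V)) F V,
    ∀ i l, Φ.B (b i) (b l) = if i = l then 1 else 0 := by
  obtain ⟨w, hw⟩ := exists_onf hΦ (k := finrank F V) le_rfl
  have hli : LinearIndependent F w := by
    rw [Fintype.linearIndependent_iff]
    intro c h i
    have h2 : Φ.B (∑ l, c l • w l) (w i) = c i := by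
      rw [B_sum_left]
      simp only [hw, mul_ite, mul_one, mul_zero, Finset.sum_ite_eq', Finset.mem_univ, if_true]
    have h3 : Φ.B 0 (w i) = 0 := by
      have := Φ.smul_left 0 0 (w i)
      rwa [zero_smul, zero_mul] at this
    rw [← h2, h, h3]
  refine ⟨Basis.mk hli (hli.span_eq_top_of_card_eq_finrank' (Fintype.card_fin _)).ge, fun i l => ?_⟩
  rw [Basis.coe_mk]
  exact hw i l

theorem B_eq_sum {n : ℕ} (hΦ : IsHerm r Φ) (b : Basis (Fin n) F V)
    (hb : ∀ i l, Φ.B (b i) (b l) = if i = l then 1 else 0) (x y : V) :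
    Φ.B x y = ∑ i, b.repr x i * b.repr y i ^ r := by
  conv_lhs => rw [← b.sum_repr x, ← b.sum_repr y]
  rw [B_sum_left]
  refine Finset.sum_congr rfl fun i _ => ?_
  rw [B_sum_right]
  simp only [hb, mul_ite, mul_one, mul_zero, Finset.sum_ite_eq, Finset.mem_univ, if_true, hΦ.s]

/-- **hermitian spaces of the same dimension are isometric** -/
theorem exists_isom {V' : Type*} [AddCommGroup V'] [Module F V'] [FiniteDimensional F V'] {Φ' : Frm F V'}
    (hΦ : IsHerm r Φ) (hΦ' : IsHerm r Φ') (h : finrank F V = finrank F V') :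
    ∃ e : V ≃ₗ[F] V', ∀ x y, Φ'.B (e x) (e y) = Φ.B x y := by
  obtain ⟨b, hb⟩ := exists_onb hΦ
  obtain ⟨b', hb'⟩ := exists_onb hΦ'
  refine ⟨b.equiv b' (finCongr h), fun x y => ?_⟩
  rw [B_eq_sum hΦ b hb, B_eq_sum hΦ' b' hb', ← (finCongr h).sum_comp]
  refine Finset.sum_congr rfl fun i _ => ?_
  have h1 : ∀ z : V, b'.repr (b.equiv b' (finCongr h) z) (finCongr h i) = b.repr z i := by
    intro z
    have h2 : (b.equiv b' (finCongr h)) z = ∑ j, b.repr z j • b' (finCongr h j) := by
      conv_lhs => rw [← b.sum_repr z]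
      rw [map_sum]
      refine Finset.sum_congr rfl fun j _ => ?_
      rw [map_smul, Basis.equiv_apply]
    rw [h2, map_sum, Finset.sum_apply']
    simp only [map_smul, Basis.repr_self, Finsupp.smul_single, smul_eq_mul, mul_one]
    rw [Finset.sum_eq_single i]
    · rw [Finsupp.single_eq_same]
    · intro j _ hj
      rw [Finsupp.single_eq_of_ne]
      exact fun h3 => hj ((finCongr h).injective h3.symm)
    · intro h3
      exact absurd (Finset.mem_univ _) h3
  rw [h1, h1]

end form

end Cfsg.Agent.H881.Bs
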