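import Cfsg.Agent.H847.Bs.Defs2

/-!
# S5733: generic counting of conjugates of torus elements

* `card_le_of_fiber`, `conj_count`;
* `mu e t` : multiplication by `t : Lˣ` transported to `V` by `e : V ≃ₗ[F] L`;
* `irr_mu` : it is irreducible if `F[t] = L`;
* `irr_count` : `|G| |E| ≤ dim V * |{c : mu e c ∈ G}| * |{conjugates of mu e t, t ∈ E}|`.
-/

set_option autoImplicit false

namespace Cfsg.Agent.H881.Bs

open Cfsg.Agent.H847.Bs

theorem card_le_of_fiber {α β : Type*} [Finite α] [Finite β] (f : α → β) (n : ℕ)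
    (h : ∀ b, Nat.card {a // f a = b} ≤ n) : Nat.card α ≤ n * Nat.card β := by
  have := Fintype.ofFinite β
  rw [← Nat.card_congr (Equiv.sigmaFiberEquiv f), Nat.card_sigma]
  calc ∑ b : β, Nat.card {a // f a = b} ≤ ∑ _b : β, n := Finset.sum_le_sum fun b _ => h b
    _ = n * Nat.card β := by rw [Finset.sum_const, Finset.card_univ, smul_eq_mul, Nat.card_eq_fintype_card, mul_comm]

/-- **Counting conjugates.** -/
theorem conj_count {Γ : Type*} [Group Γ] [Finite Γ] (G : Subgroup Γ) (S : Set Γ) (d m : ℕ)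
    (hd : ∀ t ∈ S, Nat.card {t' // t' ∈ S ∧ ∃ g ∈ G, g * t * g⁻¹ = t'} ≤ d)
    (hm : ∀ t ∈ S, Nat.card {g // g ∈ G ∧ g * t = t * g} ≤ m) :
    Nat.card G * Nat.card S ≤ d * m * Nat.card {z // ∃ g ∈ G, ∃ t ∈ S, z = g * t * g⁻¹} := by
  rw [← Nat.card_prod]
  refine card_le_of_fiber (fun p : G × S =>
    (⟨p.1 * p.2 * (p.1 : Γ)⁻¹, p.1, p.1.2, p.2, p.2.2, rfl⟩ : {z // ∃ g ∈ G, ∃ t ∈ S, z = g * t * g⁻¹})) _ ?_
  rintro ⟨z, g₀, hg₀, t₀, ht₀, hz⟩
  -- the map to the second component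
  have hconj : ∀ p : {p : G × S // (⟨p.1 * p.2 * (p.1 : Γ)⁻¹, p.1, p.1.2, p.2, p.2.2, rfl⟩ :
      {z // ∃ g ∈ G, ∃ t ∈ S, z = g * t * g⁻¹}) = ⟨z, g₀, hg₀, t₀, ht₀, hz⟩},
      (p.1.1 : Γ) * p.1.2 * (p.1.1 : Γ)⁻¹ = z := fun p => congrArg Subtype.val p.2
  refine le_trans (card_le_of_fiber (fun p => (⟨p.1.2, p.1.2.2, (p.1.1 : Γ)⁻¹ * g₀,
    G.mul_mem (G.inv_mem p.1.1.2) hg₀, ?_⟩ : {t' // t' ∈ S ∧ ∃ g ∈ G, g * t₀ * g⁻¹ = t'})) m ?_) ?_
  · have h1 := (hconj p).trans hz
    calc (p.1.1 : Γ)⁻¹ * g₀ * t₀ * ((p.1.1 : Γ)⁻¹ * g₀)⁻¹ = (p.1.1 : Γ)⁻¹ * (g₀ * t₀ * g₀⁻¹) * p.1.1 := by group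
      _ = (p.1.1 : Γ)⁻¹ * (p.1.1 * p.1.2 * (p.1.1 : Γ)⁻¹) * p.1.1 := by rw [h1]
      _ = p.1.2 := by group
  · rintro ⟨t, ht, -⟩
    -- the elements with second component `t`
    by_cases hemp : Nonempty {p : {p : G × S // (⟨p.1 * p.2 * (p.1 : Γ)⁻¹, p.1, p.1.2, p.2, p.2.2, rfl⟩ :
        {z // ∃ g ∈ G, ∃ t ∈ S, z = g * t * g⁻¹}) = ⟨z, g₀, hg₀, t₀, ht₀, hz⟩} // (p.1.2 : Γ) = t}
    · obtain ⟨⟨p₁, hp₁⟩⟩ := hemp
      refine le_trans ?_ (hm t ht)
      refine Nat.card_le_card_of_injective (fun p => (⟨(p₁.1.1 : Γ)⁻¹ * p.1.1.1,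
        G.mul_mem (G.inv_mem p₁.1.1.2) p.1.1.1.2, ?_⟩ : {g // g ∈ G ∧ g * t = t * g})) ?_
      · have h1 := hconj p₁
        have h2 := hconj p.1
        have h3 : (p.1.1.2 : Γ) = t := congrArg Subtype.val p.2
        rw [hp₁] at h1
        rw [h3] at h2
        calc (p₁.1.1 : Γ)⁻¹ * p.1.1.1 * t = (p₁.1.1 : Γ)⁻¹ * (p.1.1.1 * t * (p.1.1.1 : Γ)⁻¹) * p.1.1.1 := by group
          _ = (p₁.1.1 : Γ)⁻¹ * (p₁.1.1 * t * (p₁.1.1 : Γ)⁻¹) * p.1.1.1 := by rw [h2, h1]
          _ = t * ((p₁.1.1 : Γ)⁻¹ * p.1.1.1) := by group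
      · intro p p' h
        have h1 : (p₁.1.1 : Γ)⁻¹ * p.1.1.1 = (p₁.1.1 : Γ)⁻¹ * p'.1.1.1 := congrArg Subtype.val h
        have h2 : (p.1.1.1 : Γ) = p'.1.1.1 := mul_left_cancel h1
        have h3 : (p.1.1.2 : Γ) = t := congrArg Subtype.val p.2
        have h4 : (p'.1.1.2 : Γ) = t := congrArg Subtype.val p'.2
        exact Subtype.ext (Subtype.ext (Prod.ext (Subtype.ext h2) (Subtype.ext (h3.trans h4.symm))))
    · refine le_trans (le_of_eq ?_) (Nat.zero_le _)
      rw [Nat.card_eq_zero]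
      exact Or.inl ⟨fun p => hemp ⟨⟨p.1, congrArg Subtype.val p.2⟩⟩⟩
  · rw [mul_comm d m]
    exact Nat.mul_le_mul_left m (hd t₀ ht₀)

section mu

variable {F V L : Type*} [Field F] [AddCommGroup V] [Module F V] [Field L] [Algebra F L]

/-- multiplication by a unit of `L` -/
def mul (F : Type*) {L : Type*} [Field F] [Field L] [Algebra F L] (t : Lˣ) : L ≃ₗ[F] L :=
  { toFun := fun x => t * x
    map_add' := fun x y => mul_add _ _ _
    map_smul' := fun a x => by rw [RingHom.id_apply, mul_smul_comm]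
    invFun := fun x => (t⁻¹ : Lˣ) * x
    left_inv := fun x => by
      change ((t⁻¹ : Lˣ) : L) * ((t : L) * x) = x
      rw [← mul_assoc, Units.inv_mul, one_mul]
    right_inv := fun x => by
      change (t : L) * (((t⁻¹ : Lˣ) : L) * x) = x
      rw [← mul_assoc, Units.mul_inv, one_mul] }

@[simp] theorem mul_apply (t : Lˣ) (x : L) : mul F t x = t * x := rfl

/-- multiplication by a unit of `L`, transported to `V` -/
def mu (e : V ≃ₗ[F] L) (t : Lˣ) : V ≃ₗ[F] V := e ≪≫ₗ mul F t ≪≫ₗ e.symm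

theorem mu_apply (e : V ≃ₗ[F] L) (t : Lˣ) (v : V) : mu e t v = e.symm (t * e v) := rfl

theorem e_mu (e : V ≃ₗ[F] L) (t : Lˣ) (v : V) : e (mu e t v) = t * e v := by
  rw [mu_apply, e.apply_symm_apply]

theorem mu_injective (e : V ≃ₗ[F] L) : Function.Injective (mu e) := by
  intro s t h
  have h1 : mu e s (e.symm 1) = mu e t (e.symm 1) := by rw [h]
  have h2 := congrArg e h1
  rw [e_mu, e_mu, e.apply_symm_apply, mul_one, mul_one] at h2
  exact Units.ext h2

/-- `t` generates `L` over `F` -/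
def Gen (F : Type*) {L : Type*} [Field F] [Field L] [Algebra F L] (t : L) : Prop := Algebra.adjoin F {t} = ⊤

theorem Gen.mem {t : L} (h : Gen F t) (P : L → Prop) (h0 : ∀ a : F, P (algebraMap F L a)) (ht : P t)
    (hadd : ∀ x y, P x → P y → P (x + y)) (hmul : ∀ x y, P x → P y → P (x * y)) (x : L) : P x := by
  have hx : x ∈ Algebra.adjoin F {t} := by rw [h]; exact Algebra.mem_top
  induction hx using Algebra.adjoin_induction with
  | mem y hy => rw [Set.mem_singleton_iff.1 hy]; exact ht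
  | algebraMap r => exact h0 r
  | add x y _ _ hx hy => exact hadd x y hx hy
  | mul x y _ _ hx hy => exact hmul x y hx hy

/-- a subspace of `L` stable under a generator is stable under `L` -/
theorem smul_mem_of_gen {t : L} (h : Gen F t) {Y : Submodule F L} (hY : ∀ y ∈ Y, t * y ∈ Y) (c : L) :
    ∀ y ∈ Y, c * y ∈ Y := by
  refine h.mem (fun c => ∀ y ∈ Y, c * y ∈ Y) (fun a y hy => ?_) hY (fun x z hx hz y hy => ?_)
    (fun x z hx hz y hy => ?_) c
  · rw [← Algebra.smul_def]; exact Y.smul_mem a hy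
  · rw [add_mul]; exact Y.add_mem (hx y hy) (hz y hy)
  · rw [mul_assoc]; exact hx _ (hz y hy)

theorem irr_mul {t : Lˣ} (h : Gen F (t : L)) : Irr (mul F t) (⊤ : Submodule F L) where
  inv := fun _ _ => Submodule.mem_top
  ne_bot := top_ne_bot
  min := by
    intro Y _ hY
    by_cases h0 : Y = ⊥
    · exact Or.inl h0
    · right
      obtain ⟨y, hy, hy0⟩ := Submodule.exists_mem_ne_zero_of_ne_bot h0
      rw [eq_top_iff]
      intro x _
      have h1 := smul_mem_of_gen h hY (x * y⁻¹) y hy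
      rwa [mul_assoc, inv_mul_cancel₀ hy0, mul_one] at h1

theorem irr_mu (e : V ≃ₗ[F] L) {t : Lˣ} (h : Gen F (t : L)) : Irr (mu e t) (⊤ : Submodule F V) where
  inv := fun _ _ => Submodule.mem_top
  ne_bot := by
    intro h0
    have h1 : e.symm 1 ∈ (⊤ : Submodule F V) := Submodule.mem_top
    rw [h0, Submodule.mem_bot] at h1
    have h2 : (1 : L) = 0 := by rw [← e.apply_symm_apply 1, h1, map_zero]
    exact one_ne_zero h2
  min := by
    intro Y _ hY
    have h1 := (irr_mul h).min (Y.map (e : V →ₗ[F] L)) le_top (by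
      rintro x ⟨y, hy, rfl⟩
      exact ⟨mu e t y, hY y hy, e_mu e t y⟩)
    rcases h1 with h1 | h1
    · left
      exact (Submodule.map_eq_bot_iff (e := e) (p := Y)).1 h1
    · right
      rw [eq_top_iff]
      intro v _
      have h2 : e v ∈ Y.map (e : V →ₗ[F] L) := by rw [h1]; exact Submodule.mem_top
      obtain ⟨y, hy, hye⟩ := h2
      rwa [← e.injective hye]

/-- an endomorphism commuting with a generator is a multiplication -/
theorem eq_mul_of_comm {t : L} (h : Gen F t) {g : L →ₗ[F] L} (hg : ∀ x, g (t * x) = t * g x) (x : L) :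
    g x = g 1 * x := by
  have h1 : ∀ c : L, ∀ x, g (c * x) = c * g x := by
    refine h.mem (fun c => ∀ x, g (c * x) = c * g x) (fun a x => ?_) hg (fun c c' hc hc' x => ?_)
      (fun c c' hc hc' x => ?_)
    · rw [← Algebra.smul_def, map_smul, Algebra.smul_def]
    · rw [add_mul, map_add, hc, hc', add_mul]
    · rw [mul_assoc, hc, hc', mul_assoc]
  have h2 := h1 x 1
  rw [mul_one] at h2
  rw [h2, mul_comm]

/-- **The centraliser of an irreducible element.** -/
theorem exists_mu_of_comm (e : V ≃ₗ[F] L) {t : Lˣ} (h : Gen F (t : L)) {g : V ≃ₗ[F] V}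
    (hg : g * mu e t = mu e t * g) : ∃ c : Lˣ, g = mu e c := by
  set g' : L →ₗ[F] L := (e : V →ₗ[F] L) ∘ₗ (g : V →ₗ[F] V) ∘ₗ (e.symm : L →ₗ[F] V) with hg'
  have h1 : ∀ x, g' (t * x) = t * g' x := by
    intro x
    have h2 := congrArg (fun f : V ≃ₗ[F] V => e (f (e.symm x))) hg
    change e (g (mu e t (e.symm x))) = e (mu e t (g (e.symm x))) at h2
    rw [e_mu, mu_apply, e.apply_symm_apply] at h2
    exact h2
  have h2 := eq_mul_of_comm h h1
  have h3 : g' 1 ≠ 0 := by
    intro h0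
    have h4 : e (g (e.symm 1)) = 0 := h0
    have h5 : e.symm (1 : L) = 0 := by
      rw [LinearEquiv.map_eq_zero_iff, LinearEquiv.map_eq_zero_iff] at h4
      exact h4
    rw [LinearEquiv.map_eq_zero_iff] at h5
    exact one_ne_zero h5
  refine ⟨Units.mk0 _ h3, LinearEquiv.ext fun v => ?_⟩
  rw [mu_apply, Units.val_mk0, ← h2 (e v)]
  change _ = e.symm (e (g (e.symm (e v))))
  rw [e.symm_apply_apply, e.symm_apply_apply]

/-- conjugate multiplications satisfy the same polynomials -/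
theorem aeval_mul (t : Lˣ) (p : Polynomial F) (x : L) :
    (Polynomial.aeval (mul F t : L →ₗ[F] L) p) x = Polynomial.aeval (t : L) p * x := by
  induction p using Polynomial.induction_on' with
  | add p q hp hq => rw [map_add, map_add, LinearMap.add_apply, hp, hq, add_mul]
  | monomial n a =>
    rw [Polynomial.aeval_monomial, Polynomial.aeval_monomial, Module.End.mul_apply, Module.algebraMap_end_apply]
    have h1 : ∀ n : ℕ, ((mul F t : L →ₗ[F] L) ^ n) x = (t : L) ^ n * x := by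
      intro n
      induction n with
      | zero => simp
      | succ n ih =>
        rw [pow_succ', Module.End.mul_apply, ih]
        change (t : L) * _ = _
        rw [pow_succ', mul_assoc]
    rw [h1, Algebra.smul_def, mul_assoc]

theorem aeval_lin {W : Type*} [AddCommGroup W] [Module F W] (g : V →ₗ[F] W) (x : V →ₗ[F] V) (y : W →ₗ[F] W)
    (h : ∀ v, g (x v) = y (g v)) (p : Polynomial F) (v : V) :
    g (Polynomial.aeval x p v) = Polynomial.aeval y p (g v) := by
  induction p using Polynomial.induction_on' with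
  | add p q hp hq => rw [map_add, map_add, LinearMap.add_apply, LinearMap.add_apply, map_add, hp, hq]
  | monomial n a =>
    rw [Polynomial.aeval_monomial, Polynomial.aeval_monomial, Module.End.mul_apply, Module.End.mul_apply,
      Module.algebraMap_end_apply, Module.algebraMap_end_apply, map_smul]
    congr 1
    induction n generalizing v with
    | zero => simp
    | succ n ih => rw [pow_succ, pow_succ, Module.End.mul_apply, Module.End.mul_apply, ih, h]

theorem aeval_conj {W : Type*} [AddCommGroup W] [Module F W] (g : V ≃ₗ[F] W) (x : V →ₗ[F] V) (y : W →ₗ[F] W)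
    (h : ∀ v, g (x v) = y (g v)) (p : Polynomial F) (v : V) :
    g (Polynomial.aeval x p v) = Polynomial.aeval y p (g v) :=
  aeval_lin (g : V →ₗ[F] W) x y h p v

theorem root_of_conj (e : V ≃ₗ[F] L) {s t : Lˣ} {g : V ≃ₗ[F] V} (h : g * mu e t * g⁻¹ = mu e s) (p : Polynomial F)
    (hp : Polynomial.aeval (t : L) p = 0) : Polynomial.aeval (s : L) p = 0 := by
  -- the conjugating map on `L`
  set g' : L ≃ₗ[F] L := e.symm ≪≫ₗ g ≪≫ₗ e with hg'
  have h1 : ∀ x, g' (mul F t x) = mul F s (g' x) := by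
    intro x
    have h2 : g * mu e t = mu e s * g := by rw [← h]; group
    have h3 := congrArg (fun f : V ≃ₗ[F] V => e (f (e.symm x))) h2
    change e (g (mu e t (e.symm x))) = e (mu e s (g (e.symm x))) at h3
    rw [e_mu, mu_apply, e.apply_symm_apply] at h3
    exact h3
  have h2 := aeval_conj g' (mul F t : L →ₗ[F] L) (mul F s : L →ₗ[F] L) h1 p (g'.symm 1)
  rw [aeval_mul, hp, zero_mul, map_zero, g'.apply_symm_apply, aeval_mul, mul_one] at h2
  exact h2.symm

theorem card_rootSet_le (p : Polynomial F) : Nat.card (p.rootSet L) ≤ p.natDegree := by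
  classical
  have h : p.rootSet L = ((p.map (algebraMap F L)).roots.toFinset : Set L) := by
    rw [Polynomial.rootSet_def]
  rw [h, Nat.card_coe_set_eq, Set.ncard_coe_finset]
  refine (Multiset.toFinset_card_le _).trans ((Polynomial.card_roots' _).trans ?_)
  rw [Polynomial.natDegree_map]

/-- **Counting irreducible elements.** -/
theorem irr_count [Finite V] [Finite L] [FiniteDimensional F L] (e : V ≃ₗ[F] L) (G : Subgroup (V ≃ₗ[F] V))
    (E : Set Lˣ) (hE : ∀ t ∈ E, Gen F (t : L)) :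
    Nat.card G * Nat.card E ≤ Module.finrank F V * Nat.card {c : Lˣ // mu e c ∈ G} *
      Nat.card {z : V ≃ₗ[F] V // ∃ g ∈ G, ∃ t ∈ E, z = g * mu e t * g⁻¹} := by
  classical
  have hfin : Finite (V ≃ₗ[F] V) := Finite.of_injective (fun g : V ≃ₗ[F] V => (g : V → V)) DFunLike.coe_injective
  have h1 := conj_count G (mu e '' E) (Module.finrank F V) (Nat.card {c : Lˣ // mu e c ∈ G}) ?_ ?_
  · have h2 : Nat.card (mu e '' E) = Nat.card E := Nat.card_image_of_injective (mu_injective e) E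
    rw [h2] at h1
    refine h1.trans (Nat.mul_le_mul_left _ (le_of_eq (Nat.card_congr (Equiv.subtypeEquivRight fun z => ?_))))
    constructor
    · rintro ⟨g, hg, _, ⟨t, ht, rfl⟩, rfl⟩
      exact ⟨g, hg, t, ht, rfl⟩
    · rintro ⟨g, hg, t, ht, rfl⟩
      exact ⟨g, hg, _, ⟨t, ht, rfl⟩, rfl⟩
  · rintro _ ⟨t, ht, rfl⟩
    have hint : IsIntegral F (t : L) := Algebra.IsIntegral.isIntegral _
    have h0 : minpoly F (t : L) ≠ 0 := minpoly.ne_zero hint
    have h2 : Nat.card {t' // t' ∈ mu e '' E ∧ ∃ g ∈ G, g * mu e t * g⁻¹ = t'} ≤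
        Nat.card ((minpoly F (t : L)).rootSet L) := by
      refine Nat.card_le_card_of_injective (fun z => ⟨((z.2.1.choose : Lˣ) : L), ?_⟩) ?_
      · rw [Polynomial.mem_rootSet]
        refine ⟨h0, ?_⟩
        obtain ⟨g, hg, h3⟩ := z.2.2
        refine root_of_conj e (h3.trans z.2.1.choose_spec.2.symm) _ (minpoly.aeval _ _)
      · intro z z' h
        have h3 : ((z.2.1.choose : Lˣ) : L) = ((z'.2.1.choose : Lˣ) : L) := congrArg Subtype.val h
        have h4 := Units.ext h3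
        refine Subtype.ext ?_
        rw [← z.2.1.choose_spec.2, ← z'.2.1.choose_spec.2, h4]
    refine h2.trans ((card_rootSet_le _).trans ?_)
    rw [e.finrank_eq]
    exact minpoly.natDegree_le (t : L)
  · rintro _ ⟨t, ht, rfl⟩
    refine Nat.card_le_card_of_injective (fun g => (⟨(exists_mu_of_comm e (hE t ht) g.2.2).choose, ?_⟩ :
      {c : Lˣ // mu e c ∈ G})) ?_
    · rw [← (exists_mu_of_comm e (hE t ht) g.2.2).choose_spec]
      exact g.2.1
    · intro g g' h
      have h2 : (exists_mu_of_comm e (hE t ht) g.2.2).choose = (exists_mu_of_comm e (hE t ht) g'.2.2).choose :=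
        congrArg Subtype.val h
      refine Subtype.ext ?_
      rw [(exists_mu_of_comm e (hE t ht) g.2.2).choose_spec, h2,
        ← (exists_mu_of_comm e (hE t ht) g'.2.2).choose_spec]

end mu

end Cfsg.Agent.H881.Bs
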